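import Cfsg.Agent.H33.IM
import Cfsg.Agent.Characters.ClassMul
import Cfsg.Agent.Characters.DegreeBounds
import Cfsg.Agent.Characters.GaloisBasic

/-!
# Structure constants and degrees divisible by `p` (helper672)

If no irreducible character of `G` has degree divisible by the prime `p`, then for all
`a b g : G` the number `|G|_p` divides `N(a,b;g) |C(a)| |C(b)|`, where `N(a,b;g)` is the number of
pairs `(x, y)`, `x ~ a`, `y ~ b`, `x y = g`.

* `IM.of_npairs` : the contrapositive.
* `IM.of_inverted` : an involution `t` inverts `g`, `|C(g)|` is odd and prime to `p` and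
  `|G|_p` does not divide `|C(t)|²`.
-/

set_option autoImplicit false

open Cfsg

namespace Cfsg.Agent.H672.SC

open Cfsg.Agent.Characters.Core Cfsg.Agent.H33

universe u

variable {G : Type u} [Group G]

local notation "conj" => starRingEnd ℂ

/-- The number of pairs `(x, y)` with `x ~ a`, `y ~ b`, `x y = g`. -/
noncomputable def npairs (a b g : G) : ℕ :=
  Nat.card {p : G × G // IsConj a p.1 ∧ IsConj b p.2 ∧ p.1 * p.2 = g}

theorem exists_coprime_mul [Finite G] {p : ℕ} [hp : Fact p.Prime] (h : ¬ IM p G) (a b g : G) :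
    ∃ m : ℕ, ¬ p ∣ m ∧ Nat.card G ∣ m * (npairs a b g *
      (Nat.card (Subgroup.centralizer ({a} : Set G)) *
        Nat.card (Subgroup.centralizer ({b} : Set G)))) := by
  classical
  have : Finite (IrrCharacter G) := finite_irr
  have : Fintype (IrrCharacter G) := Fintype.ofFinite _
  have hdeg : ∀ χ : IrrCharacter G, (χ : G → ℂ) 1 = (charDegree (χ : G → ℂ) : ℂ) := fun χ =>
    Cfsg.Agent.Blocks.Basic.irr_one_eq_charDegree χ.2
  have hpos : ∀ χ : IrrCharacter G, charDegree (χ : G → ℂ) ≠ 0 := by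
    intro χ h0
    apply h
    exact ⟨χ, by rw [h0]; exact dvd_zero _⟩
  refine ⟨∏ χ : IrrCharacter G, charDegree (χ : G → ℂ), ?_, ?_⟩
  · intro hd
    obtain ⟨χ, -, hχ⟩ := (Prime.dvd_finsetProd_iff hp.out.prime _).1 hd
    exact h ⟨χ, hχ⟩
  · set m := ∏ χ : IrrCharacter G, charDegree (χ : G → ℂ) with hm
    have hG : (Nat.card G : ℂ) ≠ 0 := by exact_mod_cast Nat.card_pos.ne'
    apply Cfsg.Agent.Characters.DegreeBounds.nat_dvd_of_isIntegral_div Nat.card_pos.ne'
    have h1 := Cfsg.Agent.Characters.ClassMul.card_class_mul a b g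
    have ha : (Nat.card (Subgroup.centralizer ({a} : Set G)) : ℂ) *
        ((Subgroup.centralizer ({a} : Set G)).index : ℂ) = (Nat.card G : ℂ) := by
      exact_mod_cast Subgroup.card_mul_index _
    have hb : (Nat.card (Subgroup.centralizer ({b} : Set G)) : ℂ) *
        ((Subgroup.centralizer ({b} : Set G)).index : ℂ) = (Nat.card G : ℂ) := by
      exact_mod_cast Subgroup.card_mul_index _
    set S : ℂ := ∑ χ : IrrCharacter G,
        (χ : G → ℂ) a * (χ : G → ℂ) b * conj ((χ : G → ℂ) g) / (χ : G → ℂ) 1 with hS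
    have hmS : IsIntegral ℤ ((m : ℂ) * S) := by
      rw [hS, Finset.mul_sum]
      apply IsIntegral.sum
      intro χ _
      have hsplit : (m : ℂ) = (charDegree (χ : G → ℂ) : ℂ) *
          ∏ ψ ∈ Finset.univ.erase χ, (charDegree (ψ : G → ℂ) : ℂ) := by
        rw [hm]
        push_cast
        rw [Finset.mul_prod_erase Finset.univ (fun ψ : IrrCharacter G => (charDegree (ψ : G → ℂ) : ℂ))
          (Finset.mem_univ χ)]
      have hne : (charDegree (χ : G → ℂ) : ℂ) ≠ 0 := by exact_mod_cast hpos χ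
      have : (m : ℂ) * ((χ : G → ℂ) a * (χ : G → ℂ) b * conj ((χ : G → ℂ) g) / (χ : G → ℂ) 1) =
          (∏ ψ ∈ Finset.univ.erase χ, (charDegree (ψ : G → ℂ) : ℂ)) *
          ((χ : G → ℂ) a * (χ : G → ℂ) b * conj ((χ : G → ℂ) g)) := by
        rw [hdeg χ, hsplit]
        field_simp
      rw [this]
      have hχ : IsCharacter G (χ : G → ℂ) := by
        obtain ⟨n, ρ, -, h3⟩ := χ.2
        exact ⟨n, ρ, h3⟩
      refine IsIntegral.mul ?_ (((Characters.GaloisBasic.isIntegral_apply hχ a).mul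
        (Characters.GaloisBasic.isIntegral_apply hχ b)).mul ?_)
      · apply IsIntegral.prod
        intro ψ _
        have h3 : IsIntegral ℤ (algebraMap ℤ ℂ (charDegree (ψ : G → ℂ) : ℤ)) :=
          isIntegral_algebraMap
        simpa using h3
      · exact (Characters.GaloisBasic.isIntegral_apply hχ g).map
          ((Complex.conjAe : ℂ →ₐ[ℝ] ℂ).restrictScalars ℤ)
    have key : ((m * (npairs a b g * (Nat.card (Subgroup.centralizer ({a} : Set G)) *
        Nat.card (Subgroup.centralizer ({b} : Set G)))) : ℕ) : ℂ) / (Nat.card G : ℂ) =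
        (m : ℂ) * S := by
      have h2 : (npairs a b g : ℂ) = ((Subgroup.centralizer ({a} : Set G)).index : ℂ) *
        ((Subgroup.centralizer ({b} : Set G)).index : ℂ) / (Nat.card G : ℂ) * S := h1
      push_cast
      rw [h2]
      rw [← ha]
      rw [← ha] at hG
      have hb' := hb
      rw [← ha] at hb'
      have hca : (Nat.card (Subgroup.centralizer ({a} : Set G)) : ℂ) ≠ 0 := left_ne_zero_of_mul hG
      have hia : ((Subgroup.centralizer ({a} : Set G)).index : ℂ) ≠ 0 := right_ne_zero_of_mul hG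
      field_simp
      linear_combination (m : ℂ) * S * hb'
    rw [key]
    exact hmS

theorem dvd_npairs_mul [Finite G] {p : ℕ} [hp : Fact p.Prime] (h : ¬ IM p G) (a b g : G) {k : ℕ}
    (hk : p ^ k ∣ Nat.card G) :
    p ^ k ∣ npairs a b g * (Nat.card (Subgroup.centralizer ({a} : Set G)) *
        Nat.card (Subgroup.centralizer ({b} : Set G))) := by
  obtain ⟨m, hm, hd⟩ := exists_coprime_mul h a b g
  have h1 : (p ^ k).Coprime m := Nat.Coprime.pow_left _ ((Nat.Prime.coprime_iff_not_dvd hp.out).2 hm)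
  exact h1.dvd_of_dvd_mul_left (hk.trans hd)

/-- **Structure constant criterion.** -/
theorem IM.of_npairs [Finite G] {p : ℕ} [hp : Fact p.Prime] (a b g : G) {k : ℕ}
    (hk : p ^ k ∣ Nat.card G)
    (h : ¬ p ^ k ∣ npairs a b g * (Nat.card (Subgroup.centralizer ({a} : Set G)) *
        Nat.card (Subgroup.centralizer ({b} : Set G)))) : IM p G := by
  by_contra hcon
  exact h (dvd_npairs_mul hcon a b g hk)

/-! ### Powers of `p` -/

/-- If `p ^ (m + 1)` divides no character degree, then `|G|` divides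
`p ^ m * c * N(a,b;g) |C(a)| |C(b)|` for some `c` prime to `p`. -/
theorem exists_coprime_mul_pow [Finite G] {p : ℕ} [hp : Fact p.Prime] {m : ℕ}
    (h : ∀ χ : IrrCharacter G, ¬ p ^ (m + 1) ∣ charDegree (χ : G → ℂ)) (a b g : G) :
    ∃ c : ℕ, ¬ p ∣ c ∧ Nat.card G ∣ c * (p ^ m * (npairs a b g *
      (Nat.card (Subgroup.centralizer ({a} : Set G)) *
        Nat.card (Subgroup.centralizer ({b} : Set G))))) := by
  classical
  have : Finite (IrrCharacter G) := finite_irr
  have : Fintype (IrrCharacter G) := Fintype.ofFinite _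
  have hdeg : ∀ χ : IrrCharacter G, (χ : G → ℂ) 1 = (charDegree (χ : G → ℂ) : ℂ) := fun χ =>
    Cfsg.Agent.Blocks.Basic.irr_one_eq_charDegree χ.2
  have hpos : ∀ χ : IrrCharacter G, charDegree (χ : G → ℂ) ≠ 0 := by
    intro χ h0
    apply h χ
    rw [h0]
    exact dvd_zero _
  -- the `p'`-parts
  let d : IrrCharacter G → ℕ := fun χ => charDegree (χ : G → ℂ) / p ^ (charDegree (χ : G → ℂ)).factorization p
  have hd : ∀ χ : IrrCharacter G, charDegree (χ : G → ℂ) ∣ p ^ m * d χ := by
    intro χ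
    have h1 : p ^ (charDegree (χ : G → ℂ)).factorization p * d χ = charDegree (χ : G → ℂ) :=
      Nat.ordProj_mul_ordCompl_eq_self _ _
    have h2 : (charDegree (χ : G → ℂ)).factorization p ≤ m := by
      by_contra hcon
      push Not at hcon
      exact h χ ((pow_dvd_pow p hcon).trans (Nat.ordProj_dvd _ _))
    conv_lhs => rw [← h1]
    exact Nat.mul_dvd_mul (pow_dvd_pow p h2) dvd_rfl
  have hdp : ∀ χ, ¬ p ∣ d χ := fun χ => Nat.not_dvd_ordCompl hp.out (hpos χ)
  refine ⟨∏ χ : IrrCharacter G, d χ, ?_, ?_⟩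
  · intro hd'
    obtain ⟨χ, -, hχ⟩ := (Prime.dvd_finsetProd_iff hp.out.prime _).1 hd'
    exact hdp χ hχ
  · set c := ∏ χ : IrrCharacter G, d χ with hc
    apply Cfsg.Agent.Characters.DegreeBounds.nat_dvd_of_isIntegral_div Nat.card_pos.ne'
    have h1 := Cfsg.Agent.Characters.ClassMul.card_class_mul a b g
    have hG : (Nat.card G : ℂ) ≠ 0 := by exact_mod_cast Nat.card_pos.ne'
    have ha : (Nat.card (Subgroup.centralizer ({a} : Set G)) : ℂ) *
        ((Subgroup.centralizer ({a} : Set G)).index : ℂ) = (Nat.card G : ℂ) := by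
      exact_mod_cast Subgroup.card_mul_index _
    have hb : (Nat.card (Subgroup.centralizer ({b} : Set G)) : ℂ) *
        ((Subgroup.centralizer ({b} : Set G)).index : ℂ) = (Nat.card G : ℂ) := by
      exact_mod_cast Subgroup.card_mul_index _
    set S : ℂ := ∑ χ : IrrCharacter G,
        (χ : G → ℂ) a * (χ : G → ℂ) b * conj ((χ : G → ℂ) g) / (χ : G → ℂ) 1 with hS
    have hcS : IsIntegral ℤ (((c * p ^ m : ℕ) : ℂ) * S) := by
      rw [hS, Finset.mul_sum]
      apply IsIntegral.sum
      intro χ _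
      obtain ⟨e, he⟩ : charDegree (χ : G → ℂ) ∣ c * p ^ m := by
        rw [mul_comm]
        refine (hd χ).trans (Nat.mul_dvd_mul dvd_rfl ?_)
        rw [hc]
        exact Finset.dvd_prod_of_mem _ (Finset.mem_univ χ)
      have hne : (charDegree (χ : G → ℂ) : ℂ) ≠ 0 := by exact_mod_cast hpos χ
      have : ((c * p ^ m : ℕ) : ℂ) *
          ((χ : G → ℂ) a * (χ : G → ℂ) b * conj ((χ : G → ℂ) g) / (χ : G → ℂ) 1) =
          (e : ℂ) * ((χ : G → ℂ) a * (χ : G → ℂ) b * conj ((χ : G → ℂ) g)) := by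
        rw [hdeg χ, he]
        push_cast
        field_simp
      rw [this]
      have hχ : IsCharacter G (χ : G → ℂ) := by
        obtain ⟨n, ρ, -, h3⟩ := χ.2
        exact ⟨n, ρ, h3⟩
      refine IsIntegral.mul ?_ (((Characters.GaloisBasic.isIntegral_apply hχ a).mul
        (Characters.GaloisBasic.isIntegral_apply hχ b)).mul ?_)
      · have h3 : IsIntegral ℤ (algebraMap ℤ ℂ (e : ℤ)) := isIntegral_algebraMap
        simpa using h3
      · exact (Characters.GaloisBasic.isIntegral_apply hχ g).map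
          ((Complex.conjAe : ℂ →ₐ[ℝ] ℂ).restrictScalars ℤ)
    have key : ((c * (p ^ m * (npairs a b g * (Nat.card (Subgroup.centralizer ({a} : Set G)) *
        Nat.card (Subgroup.centralizer ({b} : Set G))))) : ℕ) : ℂ) / (Nat.card G : ℂ) =
        ((c * p ^ m : ℕ) : ℂ) * S := by
      have h2 : (npairs a b g : ℂ) = ((Subgroup.centralizer ({a} : Set G)).index : ℂ) *
        ((Subgroup.centralizer ({b} : Set G)).index : ℂ) / (Nat.card G : ℂ) * S := h1
      push_cast
      rw [h2]
      rw [← ha]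
      rw [← ha] at hG
      have hb' := hb
      rw [← ha] at hb'
      have hca : (Nat.card (Subgroup.centralizer ({a} : Set G)) : ℂ) ≠ 0 := left_ne_zero_of_mul hG
      have hia : ((Subgroup.centralizer ({a} : Set G)).index : ℂ) ≠ 0 := right_ne_zero_of_mul hG
      field_simp
      linear_combination (c : ℂ) * (p : ℂ) ^ m * S * hb'
    rw [key]
    exact hcS

/-- **Structure constants bound the `p`-parts of the degrees from below**: if `p ^ (m + 1)` divides no
degree, then `p ^ k ∣ |G|` divides `p ^ m * N(a,b;g) |C(a)| |C(b)|`. -/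
theorem dvd_pow_mul_npairs [Finite G] {p : ℕ} [hp : Fact p.Prime] {m : ℕ}
    (h : ∀ χ : IrrCharacter G, ¬ p ^ (m + 1) ∣ charDegree (χ : G → ℂ)) (a b g : G) {k : ℕ}
    (hk : p ^ k ∣ Nat.card G) :
    p ^ k ∣ p ^ m * (npairs a b g * (Nat.card (Subgroup.centralizer ({a} : Set G)) *
        Nat.card (Subgroup.centralizer ({b} : Set G)))) := by
  obtain ⟨c, hc, hd⟩ := exists_coprime_mul_pow h a b g
  have h1 : (p ^ k).Coprime c := Nat.Coprime.pow_left _ ((Nat.Prime.coprime_iff_not_dvd hp.out).2 hc)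
  exact h1.dvd_of_dvd_mul_left (hk.trans hd)

/-! ### The involution case -/

theorem exists_two_mul {n : ℕ} (hn : Odd n) : ∃ j : ℕ, 2 * j ≡ 1 [MOD n] := by
  obtain ⟨i, hi⟩ := hn
  refine ⟨i + 1, ?_⟩
  rw [hi]
  exact ((Nat.modEq_iff_dvd' (by omega)).2 ⟨1, by omega⟩).symm

theorem pow_two_mul {x : G} {n j : ℕ} (hx : x ^ n = 1) (hj : 2 * j ≡ 1 [MOD n]) :
    x ^ (2 * j) = x := by
  conv_rhs => rw [← pow_one x]
  exact pow_eq_pow_iff_modEq.2 (hj.of_dvd (orderOf_dvd_of_pow_eq_one hx))

/-- `t` an involution inverting `c` of odd order: `c t = c ^ j t c ^ (-j)`. -/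
theorem mul_eq_conj {t c : G} (hc : t * c * t⁻¹ = c⁻¹) {n j : ℕ} (hn : c ^ n = 1)
    (hj : 2 * j ≡ 1 [MOD n]) : c * t = c ^ j * t * (c ^ j)⁻¹ := by
  have h1 : t * (c ^ j)⁻¹ = c ^ j * t := by
    have h2 : t * (c ^ j)⁻¹ * t⁻¹ = c ^ j := by
      have h3 : MulAut.conj t c = c⁻¹ := by rw [MulAut.conj_apply, hc]
      have h4 : MulAut.conj t ((c ^ j)⁻¹) = c ^ j := by
        rw [map_inv, map_pow, h3, inv_pow, inv_inv]
      rwa [MulAut.conj_apply] at h4
    calc t * (c ^ j)⁻¹ = t * (c ^ j)⁻¹ * t⁻¹ * t := by group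
      _ = c ^ j * t := by rw [h2]
  rw [mul_assoc, h1, ← mul_assoc, ← pow_add, ← two_mul, pow_two_mul hn hj]

/-- The number of pairs of conjugates of the involution `t` with product `g`, when `t` inverts `g`
and `C(g)` has odd order. -/
theorem npairs_dvd [Finite G] {t g : G} (ht : t * t = 1) (hg : t * g * t⁻¹ = g⁻¹)
    (hodd : Odd (Nat.card (Subgroup.centralizer ({g} : Set G)))) :
    npairs t t g ∣ Nat.card (Subgroup.centralizer ({g} : Set G)) := by
  classical
  set C := Subgroup.centralizer ({g} : Set G) with hC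
  have hmem : ∀ x : G, x ∈ C ↔ x * g = g * x := by
    intro x
    rw [hC, Subgroup.mem_centralizer_singleton_iff]
  obtain ⟨j, hj⟩ := exists_two_mul hodd
  have hpow : ∀ x ∈ C, x ^ Nat.card C = 1 := by
    intro x hx
    have h1 : (⟨x, hx⟩ : C) ^ Nat.card C = 1 := pow_card_eq_one'
    have h2 := congrArg Subtype.val h1
    rwa [Subgroup.coe_pow, Subgroup.coe_one] at h2
  have hti : t⁻¹ = t := inv_eq_of_mul_eq_one_left ht
  have hgC : g ∈ C := (hmem g).2 rfl
  have htg : t * g = g⁻¹ * t := by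
    calc t * g = t * g * t⁻¹ * t := by group
      _ = g⁻¹ * t := by rw [hg]
  -- `t g ~ t`
  have htgc : t * g = (g⁻¹) ^ j * t * ((g⁻¹) ^ j)⁻¹ := by
    rw [htg]
    apply mul_eq_conj _ (hpow _ (C.inv_mem hgC)) hj
    have h3 : MulAut.conj t g = g⁻¹ := by rw [MulAut.conj_apply, hg]
    have h4 : MulAut.conj t (g⁻¹) = g := by rw [map_inv, h3, inv_inv]
    rw [MulAut.conj_apply] at h4
    rw [h4, inv_inv]
  let T := {p : G × G // IsConj t p.1 ∧ IsConj t p.2 ∧ p.1 * p.2 = g}
  have hφ : ∀ c : C, IsConj t ((c : G) * t * (c : G)⁻¹) ∧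
      IsConj t ((c : G) * (t * g) * (c : G)⁻¹) ∧
      ((c : G) * t * (c : G)⁻¹) * ((c : G) * (t * g) * (c : G)⁻¹) = g := by
    intro c
    refine ⟨isConj_iff.2 ⟨c, rfl⟩, isConj_iff.2 ⟨c * (g⁻¹) ^ j, ?_⟩, ?_⟩
    · rw [htgc]
      group
    · have h1 : (c : G) * g = g * c := (hmem c).1 c.2
      calc (c : G) * t * (c : G)⁻¹ * ((c : G) * (t * g) * (c : G)⁻¹)
          = (c : G) * (t * t) * g * (c : G)⁻¹ := by group
        _ = (c : G) * g * (c : G)⁻¹ := by rw [ht, mul_one]
        _ = g := by rw [h1]; group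
  let φ : C → T := fun c => ⟨((c : G) * t * (c : G)⁻¹, (c : G) * (t * g) * (c : G)⁻¹), hφ c⟩
  have hinj : ∀ c d : C, φ c = φ d ↔ c⁻¹ * d ∈ (Subgroup.centralizer ({t} : Set G)).subgroupOf C := by
    intro c d
    have h0 : φ c = φ d ↔ (c : G) * t * (c : G)⁻¹ = (d : G) * t * (d : G)⁻¹ := by
      constructor
      · intro h
        exact congrArg (fun z : T => z.1.1) h
      · intro h
        apply Subtype.ext
        have e1 : (φ c).1.1 = (φ d).1.1 := h
        have e2 : (φ c).1.2 = (φ d).1.2 := by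
          have h3 := (φ c).2.2.2
          have h4 := (φ d).2.2.2
          rw [e1] at h3
          exact mul_left_cancel (h3.trans h4.symm)
        exact Prod.ext e1 e2
    rw [h0, Subgroup.mem_subgroupOf, Subgroup.mem_centralizer_singleton_iff]
    push_cast
    constructor
    · intro h
      calc ((c : G)⁻¹ * d) * t = (c : G)⁻¹ * ((d : G) * t * (d : G)⁻¹) * d := by group
        _ = (c : G)⁻¹ * ((c : G) * t * (c : G)⁻¹) * d := by rw [h]
        _ = t * ((c : G)⁻¹ * d) := by group
    · intro h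
      calc (c : G) * t * (c : G)⁻¹ = (c : G) * (t * ((c : G)⁻¹ * d)) * (d : G)⁻¹ := by group
        _ = (c : G) * ((c : G)⁻¹ * d * t) * (d : G)⁻¹ := by rw [h]
        _ = (d : G) * t * (d : G)⁻¹ := by group
  have hsurj : Function.Surjective φ := by
    rintro ⟨⟨x, y⟩, hx, hy, hxy⟩
    simp only at hx hy hxy
    have hx2 : x * x = 1 := by
      obtain ⟨c, rfl⟩ := isConj_iff.1 hx
      calc c * t * c⁻¹ * (c * t * c⁻¹) = c * (t * t) * c⁻¹ := by group
        _ = 1 := by rw [ht]; group
    have hy2 : y * y = 1 := by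
      obtain ⟨c, rfl⟩ := isConj_iff.1 hy
      calc c * t * c⁻¹ * (c * t * c⁻¹) = c * (t * t) * c⁻¹ := by group
        _ = 1 := by rw [ht]; group
    have hxi : x⁻¹ = x := inv_eq_of_mul_eq_one_left hx2
    have hyi : y⁻¹ = y := inv_eq_of_mul_eq_one_left hy2
    have hgi : g⁻¹ = y * x := by rw [← hxy, mul_inv_rev, hxi, hyi]
    have hxg : x * g⁻¹ = g * x := by
      rw [hgi, ← hxy]
      group
    have hgit : g⁻¹ * t = t * g := htg.symm
    have hc0 : x * t ∈ C := by
      rw [hmem]
      calc x * t * g = x * (t * g) := by group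
        _ = x * (g⁻¹ * t) := by rw [htg]
        _ = (x * g⁻¹) * t := by group
        _ = g * (x * t) := by rw [hxg]; group
    have hconj : t * (x * t) * t⁻¹ = (x * t)⁻¹ := by
      rw [mul_inv_rev, hxi, hti]
      calc t * (x * t) * t = t * x * (t * t) := by group
        _ = t * x := by rw [ht, mul_one]
    have h5 := mul_eq_conj hconj (hpow _ hc0) hj
    have h6 : x * t * t = x := by rw [mul_assoc, ht, mul_one]
    rw [h6] at h5
    refine ⟨⟨(x * t) ^ j, C.pow_mem hc0 j⟩, ?_⟩
    apply Subtype.ext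
    have e1 : (φ ⟨(x * t) ^ j, C.pow_mem hc0 j⟩).1.1 = x := h5.symm
    refine Prod.ext e1 ?_
    have h7 := (φ ⟨(x * t) ^ j, C.pow_mem hc0 j⟩).2.2.2
    rw [e1] at h7
    exact mul_left_cancel (h7.trans hxy.symm)
  have hcard : npairs t t g = ((Subgroup.centralizer ({t} : Set G)).subgroupOf C).index := by
    unfold npairs Subgroup.index
    apply Nat.card_congr
    symm
    refine Equiv.ofBijective (Quotient.lift φ ?_) ⟨?_, ?_⟩
    · intro c d hcd
      rw [hinj]
      exact QuotientGroup.leftRel_apply.1 hcd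
    · intro a b
      refine Quotient.inductionOn₂ a b ?_
      intro c d hcd
      exact Quotient.sound (QuotientGroup.leftRel_apply.2 ((hinj c d).1 hcd))
    · intro z
      obtain ⟨c, hc⟩ := hsurj z
      exact ⟨Quotient.mk _ c, hc⟩
  rw [hcard]
  exact Subgroup.index_dvd_card _

/-- **Involution criterion**: the involution `t` inverts `g`, `|C(g)|` is odd and prime to `p`, and
`|G|_p` does not divide `|C(t)|²`; then some irreducible character degree is divisible by `p`. -/
theorem IM.of_inverted [Finite G] {p : ℕ} [hp : Fact p.Prime] {t g : G} (ht : t * t = 1)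
    (hg : t * g * t⁻¹ = g⁻¹)
    (hodd : Odd (Nat.card (Subgroup.centralizer ({g} : Set G))))
    (hpg : ¬ p ∣ Nat.card (Subgroup.centralizer ({g} : Set G))) {k : ℕ}
    (hk : p ^ k ∣ Nat.card G)
    (h : ¬ p ^ k ∣ Nat.card (Subgroup.centralizer ({t} : Set G)) ^ 2) : IM p G := by
  apply IM.of_npairs t t g hk
  intro hd
  apply h
  have h1 : ¬ p ∣ npairs t t g := fun h2 => hpg (h2.trans (npairs_dvd ht hg hodd))
  have h2 : (p ^ k).Coprime (npairs t t g) :=
    Nat.Coprime.pow_left _ ((Nat.Prime.coprime_iff_not_dvd hp.out).2 h1)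
  rw [sq]
  exact h2.dvd_of_dvd_mul_left hd

/-- **Involution criterion, powers of `p`**: the involution `t` inverts `g`, `|C(g)|` is odd and prime
to `p`, and `p ^ k` divides `|G|` but not `p ^ m |C(t)|²`; then some irreducible character degree is
divisible by `p ^ (m + 1)`. -/
theorem exists_pow_dvd_of_inverted [Finite G] {p : ℕ} [hp : Fact p.Prime] {t g : G} (ht : t * t = 1)
    (hg : t * g * t⁻¹ = g⁻¹)
    (hodd : Odd (Nat.card (Subgroup.centralizer ({g} : Set G))))
    (hpg : ¬ p ∣ Nat.card (Subgroup.centralizer ({g} : Set G))) {k m : ℕ}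
    (hk : p ^ k ∣ Nat.card G)
    (h : ¬ p ^ k ∣ p ^ m * Nat.card (Subgroup.centralizer ({t} : Set G)) ^ 2) :
    ∃ χ : IrrCharacter G, p ^ (m + 1) ∣ charDegree (χ : G → ℂ) := by
  by_contra hcon
  push Not at hcon
  apply h
  have hd := dvd_pow_mul_npairs hcon t t g hk
  have h1 : ¬ p ∣ npairs t t g := fun h2 => hpg (h2.trans (npairs_dvd ht hg hodd))
  have h2 : (p ^ k).Coprime (npairs t t g) :=
    Nat.Coprime.pow_left _ ((Nat.Prime.coprime_iff_not_dvd hp.out).2 h1)
  rw [mul_left_comm] at hd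
  rw [sq]
  exact h2.dvd_of_dvd_mul_left hd

end Cfsg.Agent.H672.SC
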