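import Mathlib
import Cfsg.Prelude.Def_DegreeGraph
import Cfsg.Agent.Characters.Core
import Cfsg.Agent.Characters.Clifford
import Cfsg.Agent.CharactersDeep.CliffordSum
import Cfsg.Agent.CharDeep.CliffordCorr
import Cfsg.Agent.Blocks.Basic
import Cfsg.Agent.S0887

/-!
# Characters lying over characters along a homomorphism

`Over f χ θ` : `θ` is a constituent of `χ ∘ f`, for a homomorphism `f : H →* G` of finite groups.
Existence of constituents, transitivity, and the divisibility facts of Clifford theory in terms of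
`charDegree` when the range of `f` is normal.
-/

set_option autoImplicit false
set_option linter.style.haveILetI false
set_option linter.unusedSectionVars false
open Cfsg

namespace Cfsg.Agent.H672

open Cfsg.Agent.Characters.Core Cfsg.Agent.Characters.Clifford
open scoped ComplexConjugate

universe u v w

section
variable {G : Type u} [Group G] {H : Type v} [Group H] [Finite H]

/-- `θ` is a constituent of `χ ∘ f`. -/
def Over (f : H →* G) (χ : G → ℂ) (θ : H → ℂ) : Prop :=
  letI := Fintype.ofFinite H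
  classInner (χ ∘ f) θ ≠ 0

theorem over_iff [Fintype H] (f : H →* G) (χ : G → ℂ) (θ : H → ℂ) :
    Over f χ θ ↔ classInner (χ ∘ f) θ ≠ 0 := by
  unfold Over
  have : Fintype.ofFinite H = ‹Fintype H› := Subsingleton.elim _ _
  rw [this]

/-- A nonzero character has an irreducible constituent. -/
theorem exists_constituent [Fintype H] {χ : H → ℂ} (hχ : IsCharacter H χ) (h0 : χ ≠ 0) :
    ∃ θ : H → ℂ, IsIrrCharacter H θ ∧ classInner χ θ ≠ 0 := by
  by_contra hcon
  push Not at hcon
  exact h0 (classFunction_eq_zero (isCharacter_isClassFunction hχ) hcon)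

theorem exists_under {f : H →* G} {χ : G → ℂ} (hχ : IsIrrCharacter G χ) :
    ∃ θ : H → ℂ, IsIrrCharacter H θ ∧ Over f χ θ := by
  classical
  letI := Fintype.ofFinite H
  have h1 : IsCharacter H (χ ∘ f) := isCharacter_comp f (isIrr_isCharacter hχ)
  have h2 : (χ ∘ f) ≠ 0 := by
    intro h
    have := congrFun h 1
    simp only [Function.comp, map_one, Pi.zero_apply] at this
    exact isIrr_apply_one_ne_zero hχ this
  obtain ⟨θ, hθ, h⟩ := exists_constituent h1 h2
  exact ⟨θ, hθ, h⟩

/-- degrees of characters -/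
theorem coe_charDegree {χ : G → ℂ} (hχ : IsIrrCharacter G χ) : ((charDegree χ : ℕ) : ℂ) = χ 1 :=
  (Blocks.Basic.irr_one_eq_charDegree hχ).symm

theorem charDegree_pos {χ : G → ℂ} (hχ : IsIrrCharacter G χ) : 0 < charDegree χ :=
  Blocks.Basic.charDegree_pos hχ

theorem charDegree_of_eq {χ : G → ℂ} {n : ℕ} (h : χ 1 = n) : charDegree χ = n :=
  Blocks.Basic.charDegree_of_eq h

end

section trans
variable {G : Type u} [Group G] {K : Type w} [Group K] [Finite K] {H : Type v} [Group H] [Finite H]

/-- Constituents of a restriction to a smaller group are constituents of a constituent. -/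
theorem over_comp_iff (g : K →* G) (f : H →* K) {χ : G → ℂ} (hχ : IsCharacter G χ) {θ : H → ℂ}
    (hθ : IsIrrCharacter H θ) :
    Over (g.comp f) χ θ ↔ ∃ ξ : K → ℂ, IsIrrCharacter K ξ ∧ Over g χ ξ ∧ Over f ξ θ := by
  classical
  letI := Fintype.ofFinite H
  letI := Fintype.ofFinite K
  haveI := finite_irr (G := K)
  letI := Fintype.ofFinite (IrrCharacter K)
  obtain ⟨c, hc, hc'⟩ := CharDeep.CliffordCorr.exists_nat_coeffs
    (isCharacter_comp g hχ : IsCharacter K (χ ∘ g))
  have e : classInner (χ ∘ (g.comp f)) θ =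
      ∑ ξ : IrrCharacter K, (c ξ : ℂ) * classInner ((ξ : K → ℂ) ∘ f) θ := by
    have : χ ∘ (g.comp f) = ∑ ξ : IrrCharacter K, (c ξ : ℂ) • ((ξ : K → ℂ) ∘ f) := by
      funext x
      have := congrFun hc (f x)
      simp only [Function.comp, Finset.sum_apply, Pi.smul_apply, MonoidHom.comp_apply] at this ⊢
      exact this
    rw [this, classInner_sum_left]
    simp_rw [classInner_smul_left]
  choose a ha using fun ξ : IrrCharacter K =>
    classInner_isNat (isCharacter_comp f (isIrr_isCharacter ξ.2)) (isIrr_isCharacter hθ)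
  constructor
  · intro h
    rw [over_iff, e] at h
    obtain ⟨ξ, -, hξ⟩ := Finset.exists_ne_zero_of_sum_ne_zero h
    refine ⟨ξ, ξ.2, ?_, ?_⟩
    · rw [over_iff, hc']
      exact left_ne_zero_of_mul hξ
    · rw [over_iff]
      exact right_ne_zero_of_mul hξ
  · rintro ⟨ξ, hξ, h1, h2⟩
    rw [over_iff] at h1 h2 ⊢
    rw [e]
    simp_rw [ha]
    have hnat : (∑ x : IrrCharacter K, (c x : ℂ) * (a x : ℂ)) =
        ((∑ x : IrrCharacter K, c x * a x : ℕ) : ℂ) := by push_cast; rfl
    rw [hnat]
    norm_cast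
    intro h0
    have h3 := Finset.sum_eq_zero_iff.1 h0 ⟨ξ, hξ⟩ (Finset.mem_univ _)
    rcases mul_eq_zero.1 h3 with h4 | h4
    · apply h1
      rw [hc' ⟨ξ, hξ⟩, h4, Nat.cast_zero]
    · apply h2
      rw [ha ⟨ξ, hξ⟩, h4, Nat.cast_zero]

end trans

section deg
variable {G : Type u} [Group G] {H : Type v} [Group H] [Finite H]

/-- The degree is the sum of the degrees of the constituents with multiplicities. -/
theorem charDegree_eq_sum (f : H →* G) {χ : G → ℂ} (hχ : IsIrrCharacter G χ) [Fintype H]
    [Fintype (IrrCharacter H)] :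
    ∃ c : IrrCharacter H → ℕ, (∀ θ : IrrCharacter H, classInner (χ ∘ f) (θ : H → ℂ) = c θ) ∧
      charDegree χ = ∑ θ : IrrCharacter H, c θ * charDegree (θ : H → ℂ) := by
  classical
  obtain ⟨c, hc, hc'⟩ := CharDeep.CliffordCorr.exists_nat_coeffs
    (isCharacter_comp f (isIrr_isCharacter hχ) : IsCharacter H (χ ∘ f))
  refine ⟨c, hc', ?_⟩
  have h1 := congrFun hc 1
  simp only [Function.comp, map_one, Finset.sum_apply, Pi.smul_apply, smul_eq_mul] at h1
  rw [← coe_charDegree hχ] at h1
  have h2 : (charDegree χ : ℂ) = ((∑ θ : IrrCharacter H, c θ * charDegree (θ : H → ℂ) : ℕ) : ℂ) := by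
    rw [h1]
    push_cast
    exact Finset.sum_congr rfl fun θ _ => by rw [coe_charDegree θ.2]
  exact_mod_cast h2

/-- If a prime (any number) does not divide the degree, it does not divide the degree of some
constituent. -/
theorem exists_under_not_dvd (f : H →* G) {χ : G → ℂ} (hχ : IsIrrCharacter G χ) {r : ℕ}
    (hr : ¬ r ∣ charDegree χ) :
    ∃ θ : H → ℂ, IsIrrCharacter H θ ∧ Over f χ θ ∧ ¬ r ∣ charDegree θ := by
  classical
  letI := Fintype.ofFinite H
  haveI := finite_irr (G := H)
  letI := Fintype.ofFinite (IrrCharacter H)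
  obtain ⟨c, hc, hd⟩ := charDegree_eq_sum f hχ
  by_contra hcon
  push Not at hcon
  apply hr
  rw [hd]
  refine Finset.dvd_sum fun θ _ => ?_
  by_cases h0 : c θ = 0
  · rw [h0, zero_mul]; exact dvd_zero _
  · refine Dvd.dvd.mul_left (hcon θ θ.2 ?_) _
    rw [over_iff, hc]
    exact_mod_cast h0

theorem charDegree_le_of_over {f : H →* G} {χ : G → ℂ} (hχ : IsIrrCharacter G χ) {θ : H → ℂ}
    (hθ : IsIrrCharacter H θ) (h : Over f χ θ) : charDegree θ ≤ charDegree χ := by
  classical
  letI := Fintype.ofFinite H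
  haveI := finite_irr (G := H)
  letI := Fintype.ofFinite (IrrCharacter H)
  obtain ⟨c, hc, hd⟩ := charDegree_eq_sum f hχ
  rw [hd]
  have h1 : c ⟨θ, hθ⟩ ≠ 0 := by
    intro h0
    rw [over_iff] at h
    apply h
    rw [hc ⟨θ, hθ⟩, h0, Nat.cast_zero]
  calc charDegree θ ≤ c ⟨θ, hθ⟩ * charDegree θ := Nat.le_mul_of_pos_left _ (Nat.pos_of_ne_zero h1)
    _ ≤ _ := Finset.single_le_sum (f := fun θ : IrrCharacter H => c θ * charDegree (θ : H → ℂ))
      (fun _ _ => Nat.zero_le _) (Finset.mem_univ (⟨θ, hθ⟩ : IrrCharacter H))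

/-- If a constituent has the full degree, the restriction is that constituent. -/
theorem eq_of_over_of_charDegree_eq {f : H →* G} {χ : G → ℂ} (hχ : IsIrrCharacter G χ) {θ : H → ℂ}
    (hθ : IsIrrCharacter H θ) (h : Over f χ θ) (hd : charDegree θ = charDegree χ) : χ ∘ f = θ := by
  classical
  letI := Fintype.ofFinite H
  haveI := finite_irr (G := H)
  letI := Fintype.ofFinite (IrrCharacter H)
  obtain ⟨c, hc, hc'⟩ := CharDeep.CliffordCorr.exists_nat_coeffs
    (isCharacter_comp f (isIrr_isCharacter hχ) : IsCharacter H (χ ∘ f))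
  obtain ⟨c2, hc2, hsum⟩ := charDegree_eq_sum f hχ
  have hcc : c2 = c := by
    funext η
    have := (hc2 η).symm.trans (hc' η)
    exact_mod_cast this
  subst hcc
  have h1 : c2 ⟨θ, hθ⟩ ≠ 0 := by
    intro h0
    rw [over_iff] at h
    apply h
    rw [hc' ⟨θ, hθ⟩, h0, Nat.cast_zero]
  have hpos := charDegree_pos hθ
  have h2 : c2 ⟨θ, hθ⟩ * charDegree θ + ∑ η ∈ Finset.univ.erase (⟨θ, hθ⟩ : IrrCharacter H),
      c2 η * charDegree (η : H → ℂ) = charDegree χ := by
    rw [hsum]
    exact Finset.add_sum_erase Finset.univ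
      (fun θ : IrrCharacter H => c2 θ * charDegree (θ : H → ℂ)) (Finset.mem_univ (⟨θ, hθ⟩ : IrrCharacter H))
  have h3 : charDegree θ ≤ c2 ⟨θ, hθ⟩ * charDegree θ :=
    Nat.le_mul_of_pos_left _ (Nat.pos_of_ne_zero h1)
  have h4 : ∑ η ∈ Finset.univ.erase (⟨θ, hθ⟩ : IrrCharacter H), c2 η * charDegree (η : H → ℂ) = 0 := by
    omega
  have h5 : c2 ⟨θ, hθ⟩ = 1 := by
    have : c2 ⟨θ, hθ⟩ * charDegree θ = charDegree θ := by omega
    exact Nat.eq_of_mul_eq_mul_right hpos (by rw [this, one_mul])
  rw [hc, Finset.sum_eq_single (⟨θ, hθ⟩ : IrrCharacter H)]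
  · rw [h5]; simp
  · intro η _ hη
    have := Finset.sum_eq_zero_iff.1 h4 η (Finset.mem_erase.2 ⟨hη, Finset.mem_univ _⟩)
    rcases mul_eq_zero.1 this with h6 | h6
    · rw [h6]; simp
    · exact absurd h6 (charDegree_pos η.2).ne'
  · intro h; exact absurd (Finset.mem_univ _) h

end deg

section ind
variable {G : Type u} [Group G] [Finite G]

/-- Over a subgroup: every irreducible character of a subgroup lies under some irreducible
character of the group. -/
theorem exists_over_subtype (H : Subgroup G) {θ : H → ℂ} (hθ : IsIrrCharacter H θ) :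
    ∃ χ : G → ℂ, IsIrrCharacter G χ ∧ Over H.subtype χ θ := by
  classical
  letI := Fintype.ofFinite H
  letI := Fintype.ofFinite G
  have h1 : IsCharacter G (indFun H θ) := CharDeep.CliffordCorr.isCharacter_indFun H (isIrr_isCharacter hθ)
  have h2 : indFun H θ ≠ 0 := by
    intro h
    have h3 := congrFun h 1
    rw [indFun_apply] at h3
    simp only [mul_one, inv_mul_cancel, Pi.zero_apply] at h3
    have h4 : extendByZero H θ 1 = θ 1 := by
      have := extendByZero_of_mem H θ (one_mem H)
      rw [this]; rfl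
    simp only [h4, Finset.sum_const, Finset.card_univ, nsmul_eq_mul] at h3
    rcases mul_eq_zero.1 h3 with h5 | h5
    · exact inv_ne_zero (Nat.cast_ne_zero.2 Nat.card_pos.ne') h5
    · rcases mul_eq_zero.1 h5 with h6 | h6
      · exact (Nat.cast_ne_zero.2 (Fintype.card_pos (α := G)).ne') h6
      · exact isIrr_apply_one_ne_zero hθ h6
  obtain ⟨χ, hχ, h⟩ := exists_constituent h1 h2
  refine ⟨χ, hχ, ?_⟩
  rw [over_iff]
  have h3 := CharactersDeep.NormalInd.classInner_indFun H θ χ (isIrr_isClassFunction hχ)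
  rw [h3] at h
  intro h4
  apply h
  rw [← classInner_conj_symm]
  have : classInner (fun h : H => χ h) θ = 0 := h4
  rw [this, map_zero]

theorem over_subtype_iff (H : Subgroup G) [Fintype H] (χ : G → ℂ) (θ : H → ℂ) :
    Over H.subtype χ θ ↔ classInner (fun h : H => χ h) θ ≠ 0 := over_iff _ _ _

/-- Transport of `Over` along isomorphisms of the small group. -/
theorem over_comp_equiv {H : Type v} [Group H] [Finite H] {K : Type w} [Group K] [Finite K]
    (f : H →* G) (e : K ≃* H) (χ : G → ℂ) (θ : H → ℂ) :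
    Over (f.comp e.toMonoidHom) χ (θ ∘ e) ↔ Over f χ θ := by
  classical
  letI := Fintype.ofFinite H
  letI := Fintype.ofFinite K
  rw [over_iff, over_iff, ← classInner_comp_mulEquiv e (χ ∘ f) θ]
  rfl

end ind

section normal
variable {G : Type u} [Group G] [Finite G]

/-- The degree of a constituent on a normal subgroup divides the degree, and the quotient divides
the index. -/
theorem charDegree_dvd_of_over (N : Subgroup G) [N.Normal] {χ : G → ℂ} (hχ : IsIrrCharacter G χ)
    {θ : N → ℂ} (hθ : IsIrrCharacter N θ) (h : Over N.subtype χ θ) :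
    charDegree θ ∣ charDegree χ ∧ charDegree χ / charDegree θ ∣ N.index := by
  classical
  letI := Fintype.ofFinite N
  letI := Fintype.ofFinite G
  exact S0887.result N χ hχ θ hθ ((over_subtype_iff N χ θ).1 h) _ _ (coe_charDegree hχ).symm
    (coe_charDegree hθ).symm

/-- The inertia group of a function on a normal subgroup. -/
def inertia (N : Subgroup G) [N.Normal] (θ : N → ℂ) : Subgroup G where
  carrier := {g | θ ∘ (MulAut.conjNormal g : MulAut N) = θ}
  one_mem' := by
    show θ ∘ (MulAut.conjNormal (1 : G) : MulAut N) = θ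
    rw [map_one]; rfl
  mul_mem' := by
    intro a b ha hb
    show θ ∘ (MulAut.conjNormal (a * b) : MulAut N) = θ
    have ha' : θ ∘ (MulAut.conjNormal a : MulAut N) = θ := ha
    have hb' : θ ∘ (MulAut.conjNormal b : MulAut N) = θ := hb
    rw [CharactersDeep.CliffordSum.comp_conjNormal_mul, ha', hb']
  inv_mem' := by
    intro a ha
    show θ ∘ (MulAut.conjNormal a⁻¹ : MulAut N) = θ
    have ha' : θ ∘ (MulAut.conjNormal a : MulAut N) = θ := ha
    conv_lhs => rw [← ha']
    rw [← CharactersDeep.CliffordSum.comp_conjNormal_mul, mul_inv_cancel, map_one]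
    rfl

theorem mem_inertia {N : Subgroup G} [N.Normal] {θ : N → ℂ} {g : G} :
    g ∈ inertia N θ ↔ θ ∘ (MulAut.conjNormal g : MulAut N) = θ := Iff.rfl

theorem mem_inertia_iff {N : Subgroup G} [hN : N.Normal] {θ : N → ℂ} {g : G} :
    g ∈ inertia N θ ↔ ∀ n : N, θ ⟨g * n * g⁻¹, hN.conj_mem (n : G) n.2 g⟩ = θ n := by
  rw [mem_inertia, funext_iff]
  rfl

theorem le_inertia {N : Subgroup G} [N.Normal] {θ : N → ℂ} (hθ : IsClassFunction N θ) :
    N ≤ inertia N θ := by
  intro g hg
  rw [mem_inertia_iff]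
  intro n
  exact hθ n ⟨g, hg⟩

/-- Clifford: `|G : I(θ)| θ(1)` divides `χ(1)`. -/
theorem index_mul_charDegree_dvd (N : Subgroup G) [N.Normal] {χ : G → ℂ} (hχ : IsIrrCharacter G χ)
    {θ : N → ℂ} (hθ : IsIrrCharacter N θ) (h : Over N.subtype χ θ) :
    (inertia N θ).index * charDegree θ ∣ charDegree χ := by
  classical
  letI := Fintype.ofFinite N
  letI := Fintype.ofFinite G
  have h' := (over_subtype_iff N χ θ).1 h
  obtain ⟨e, he⟩ := classInner_isNat (isCharacter_comp N.subtype (isIrr_isCharacter hχ))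
    (isIrr_isCharacter hθ)
  have he' : classInner (fun n : N => χ n) θ = e := he
  have key := CharactersDeep.CliffordSum.restrict_eq_smul_sum N hχ hθ h'
  have key1 := congrFun key 1
  rw [he'] at key1
  simp only [Pi.smul_apply, Finset.sum_apply, smul_eq_mul, OneMemClass.coe_one] at key1
  rw [Finset.sum_congr rfl (g := fun _ => θ 1) (by
    intro ψ hψ
    obtain ⟨x, -, rfl⟩ := Finset.mem_image.1 hψ
    simp), Finset.sum_const, nsmul_eq_mul, ← coe_charDegree hχ, ← coe_charDegree hθ] at key1
  have hcard := CharactersDeep.CliffordSum.card_conj_mul_card N θ (inertia N θ)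
    (fun g => mem_inertia)
  have hidx : (Finset.univ.image (fun x : G => θ ∘ (MulAut.conjNormal x : MulAut N))).card =
      (inertia N θ).index := by
    have h2 := (inertia N θ).index_mul_card
    have hpos : 0 < Nat.card (inertia N θ) := Nat.card_pos
    exact Nat.eq_of_mul_eq_mul_right hpos (hcard.trans h2.symm)
  rw [hidx] at key1
  have key2 : charDegree χ = e * ((inertia N θ).index * charDegree θ) := by exact_mod_cast key1
  exact ⟨e, by rw [key2, mul_comm]⟩

end normal

end Cfsg.Agent.H672
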