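import Mathlib
import Cfsg.Agent.H672.Over
import Cfsg.Agent.S0854
import Cfsg.Agent.OddOrderCharacters.InertiaAbelian
import Cfsg.Agent.CharactersDeep.ExtUnique
import Cfsg.Agent.CharactersDeep.LinearExt

/-!
# Linear characters of a normal subgroup: twisting, extension, inertia groups

`lf l` is the complex function of a homomorphism `l : N →* ℂˣ`.
-/

set_option autoImplicit false
set_option linter.style.haveILetI false
set_option linter.unusedSectionVars false
open Cfsg

namespace Cfsg.Agent.H672

open Cfsg.Agent.Characters.Core Cfsg.Agent.Characters.Clifford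
open scoped ComplexConjugate

universe u v w

section basic
variable {H : Type v} [Group H] [Finite H]

/-- The function of a linear character. -/
def lf (l : H →* ℂˣ) : H → ℂ := fun h => (l h : ℂ)

theorem lf_apply (l : H →* ℂˣ) (h : H) : lf l h = (l h : ℂ) := rfl

theorem isCharacter_lf (l : H →* ℂˣ) : IsCharacter H (lf l) :=
  CharactersDeep.LinearExt.isCharacter_of_hom l

theorem isIrr_mul_lf (l : H →* ℂˣ) {θ : H → ℂ} (hθ : IsIrrCharacter H θ) :
    IsIrrCharacter H (fun h => (l h : ℂ) * θ h) :=
  OddOrderCharacters.InertiaAbelian.isIrr_mul_hom l hθ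

theorem isIrr_lf (l : H →* ℂˣ) : IsIrrCharacter H (lf l) := by
  have h := isIrr_mul_lf l (isIrr_one (G := H))
  have e : (fun h => (l h : ℂ) * (1 : H → ℂ) h) = lf l := by
    funext h; simp [lf]
  rwa [e] at h

theorem lf_injective {l m : H →* ℂˣ} (h : lf l = lf m) : l = m := by
  ext x
  exact congrFun h x

theorem charDegree_lf (l : H →* ℂˣ) : charDegree (lf l) = 1 :=
  charDegree_of_eq (by simp [lf])

theorem charDegree_mul_lf (l : H →* ℂˣ) (θ : H → ℂ) :
    charDegree (fun h => (l h : ℂ) * θ h) = charDegree θ := by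
  rw [Blocks.Basic.charDegree_def, Blocks.Basic.charDegree_def]
  simp

/-- An irreducible character of degree one is a homomorphism. -/
theorem exists_hom_of_degree_one {θ : H → ℂ} (hθ : IsIrrCharacter H θ) (h1 : charDegree θ = 1) :
    ∃ l : H →* ℂˣ, θ = lf l := by
  obtain ⟨l, hl⟩ := CharactersDeep.LinearExt.exists_hom_of_isCharacter (isIrr_isCharacter hθ)
    (by rw [← coe_charDegree hθ, h1, Nat.cast_one])
  exact ⟨l, funext fun x => (hl x).symm⟩

theorem lf_mul_conj (l : H →* ℂˣ) (x : H) : (l x : ℂ) * conj (l x : ℂ) = 1 := by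
  have h := isCharacter_apply_inv (isCharacter_lf l) x
  rw [lf_apply, lf_apply] at h
  rw [← h]
  simp

/-- If a linear character of `p`-power order fixes an irreducible character of degree prime to `p`
under multiplication, it is trivial. -/
theorem eq_one_of_mul_eq {p k : ℕ} (hp : p.Prime) {θ : H → ℂ} (hθ : IsIrrCharacter H θ)
    (hd : ¬ p ∣ charDegree θ) {l : H →* ℂˣ} (hl : ∀ x, l x ^ p ^ k = 1)
    (h : (fun h => (l h : ℂ) * θ h) = θ) : l = 1 := by
  have h1 := CharactersDeep.ExtUnique.detChar_mul_hom hθ (coe_charDegree hθ).symm l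
  have e : (fun g => θ g * (l g : ℂ)) = θ := by
    conv_rhs => rw [← h]
    funext g; rw [mul_comm]
  rw [e] at h1
  obtain ⟨δ, hδ⟩ := CharactersDeep.ExtUnique.exists_hom_detChar hθ
  have h2 : ∀ x, l x ^ charDegree θ = 1 := by
    intro x
    have := congrFun h1 x
    simp only [hδ] at this
    have h3 : (δ x : ℂ) ≠ 0 := (δ x).ne_zero
    have h4 : ((l x : ℂ)) ^ charDegree θ = 1 := by
      have := mul_left_cancel₀ h3 ((mul_one _).trans this)
      exact this.symm
    apply Units.ext
    simpa using h4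
  have h3 : Nat.Coprime (charDegree θ) (p ^ k) :=
    Nat.Coprime.pow_right _ ((Nat.Prime.coprime_iff_not_dvd hp).2 hd).symm
  ext x
  have h5 := pow_gcd_eq_one.2 ⟨h2 x, hl x⟩
  rw [h3.gcd_eq_one, pow_one] at h5
  rw [h5]
  rfl

end basic

section normal
variable {G : Type u} [Group G] [Finite G] (N : Subgroup G) [hN : N.Normal]

theorem mem_inertia_lf {l : N →* ℂˣ} {g : G} :
    g ∈ inertia N (lf l) ↔ ∀ n : N, l (MulAut.conjNormal g n) = l n := by
  rw [mem_inertia, funext_iff]
  refine forall_congr' fun n => ?_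
  exact Units.val_inj

theorem inertia_lf_pow (l : N →* ℂˣ) (j : ℕ) : inertia N (lf l) ≤ inertia N (lf (l ^ j)) := by
  intro g hg
  rw [mem_inertia_lf] at hg ⊢
  intro n
  simp [hg n]

theorem mem_inertia_mul {l : N →* ℂˣ} {θ : N → ℂ} {g : G} (hl : g ∈ inertia N (lf l)) :
    g ∈ inertia N (fun n => (l n : ℂ) * θ n) ↔ g ∈ inertia N θ := by
  rw [mem_inertia_lf] at hl
  rw [mem_inertia, mem_inertia, funext_iff, funext_iff]
  refine forall_congr' fun n => ?_
  simp only [Function.comp]
  rw [hl n]
  constructor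
  · intro h
    exact mul_left_cancel₀ (l n).ne_zero h
  · intro h
    rw [h]

/-- A nontrivial irreducible character below `χ` gives a member of the relative degree set. -/
theorem mem_relCharDegrees_of_over {χ : G → ℂ} (hχ : IsIrrCharacter G χ) {θ : N → ℂ}
    (hθ : IsIrrCharacter N θ) (h : Over N.subtype χ θ) (h1 : θ ≠ 1) :
    charDegree χ ∈ relCharDegrees N := by
  refine ⟨⟨χ, hχ⟩, ?_, rfl⟩
  by_contra hcon
  push Not at hcon
  letI := Fintype.ofFinite N
  rw [over_iff] at h
  apply h
  have e : χ ∘ N.subtype = (χ 1) • (1 : N → ℂ) := by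
    funext n
    have := hcon n n.2
    simp only [Function.comp, Subgroup.coe_subtype, Pi.smul_apply, Pi.one_apply, smul_eq_mul,
      mul_one]
    exact this
  rw [e, classInner_smul_left, classInner_irr_ne isIrr_one hθ (Ne.symm h1), mul_zero]

/-- Conversely the constituents on `N` of a character not containing `N` in its kernel are
nontrivial. -/
theorem ne_one_of_over {χ : G → ℂ} (hχ : IsIrrCharacter G χ) (hk : ∃ x ∈ N, χ x ≠ χ 1) {θ : N → ℂ}
    (hθ : IsIrrCharacter N θ) (h : Over N.subtype χ θ) : θ ≠ 1 := by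
  classical
  rintro rfl
  letI := Fintype.ofFinite N
  letI := Fintype.ofFinite G
  have h' := (over_subtype_iff N χ 1).1 h
  have key := CharDeep.CliffordCorr.restrict_eq_smul_of_invariant N hχ hθ (fun g => by
    funext n; simp) h'
  obtain ⟨x, hx, hne⟩ := hk
  apply hne
  have h1 := congrFun key ⟨x, hx⟩
  have h2 := congrFun key 1
  simp only [Pi.smul_apply, Pi.one_apply] at h1 h2
  rw [h1]
  exact h2.symm

theorem exists_over (θ : N → ℂ) (hθ : IsIrrCharacter N θ) :
    ∃ χ : G → ℂ, IsIrrCharacter G χ ∧ Over N.subtype χ θ := exists_over_subtype N hθ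

end normal

end Cfsg.Agent.H672
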