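import Mathlib
import Cfsg.Agent.S2299
import Cfsg.Agent.H984.SLTable
import Cfsg.Agent.H984.SLCyc
import Cfsg.Agent.H681.DegBasic
import Cfsg.Agent.OddOrderCharacters.PF9.Reducible

/-!
# The character degree graph of `SL₂(q)` and `PSL₂(q)`, `q` odd
-/

set_option autoImplicit false
set_option linter.unusedSectionVars false
open Cfsg

namespace Cfsg.Agent.H672.SL2Graph

open Cfsg.Agent.Characters.Core Cfsg.Agent.H681.DegBasic

theorem exists_hom {C : Type*} [Group C] [Finite C] [hC : IsCyclic C] (h5 : 4 < Nat.card C) {z : C}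
    (hz : z * z = 1) : ∃ θ : C →* ℂˣ, θ z = 1 ∧ θ ^ 2 ≠ 1 := by
  obtain ⟨γ, hγ⟩ := IsCyclic.exists_generator (α := C)
  have hord : orderOf γ = Nat.card C := orderOf_eq_card_of_forall_mem_zpowers hγ
  have hn : Nat.card C ≠ 0 := by omega
  obtain ⟨ζ, hζ⟩ : ∃ ζ : ℂˣ, orderOf ζ = Nat.card C := by
    have h1 := Complex.isPrimitiveRoot_exp (Nat.card C) hn
    obtain ⟨u, hu⟩ := h1.isUnit hn
    refine ⟨u, ?_⟩
    rw [← orderOf_units, hu]
    exact h1.eq_orderOf.symm
  have hdvd : orderOf ζ ∣ orderOf γ := by rw [hζ, hord]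
  have hgen := monoidHomOfForallMemZpowers_apply_gen hγ hdvd
  set ψ := monoidHomOfForallMemZpowers hγ hdvd with hψ
  refine ⟨ψ ^ 2, ?_, ?_⟩
  · rw [MonoidHom.pow_apply, ← map_pow, sq, hz, map_one]
  · intro h
    have h1 : ψ γ ^ 4 = 1 := by
      have h2 := congrArg (fun f : C →* ℂˣ => f γ) h
      simp only [MonoidHom.pow_apply, MonoidHom.one_apply] at h2
      rw [← h2, ← pow_mul]
    rw [hgen] at h1
    have h2 := Nat.le_of_dvd (by norm_num) (orderOf_dvd_of_pow_eq_one h1)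
    omega

section sl2

variable {F : Type*} [Field F] [DecidableEq F] [Fintype F]

local notation "SL" => Matrix.SpecialLinearGroup (Fin 2) F
local notation "M₂" => Matrix (Fin 2) (Fin 2) F

open Cfsg.Agent.H984.SLTwo

theorem mem_center_cases {z : SL} (hz : z ∈ Subgroup.center SL) : z = 1 ∨ z = z0 := by
  rcases scalar_cases (not_NS_of_mem_center hz) with h | h
  · left; rw [h, upp_one_zero]
  · right; exact h

/-- degrees of characters trivial on the centre -/
theorem mem_psl {χ : SL → ℂ} (hχ : IsIrrCharacter SL χ) (h : χ z0 = χ 1) {n : ℕ} (hn : χ 1 = n) :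
    n ∈ charDegrees (Matrix.ProjectiveSpecialLinearGroup (Fin 2) F) := by
  obtain ⟨χ', h1, h2⟩ := Cfsg.Agent.OddOrderCharacters.PF9.Reducible.exists_of_surjective
    (QuotientGroup.mk' (Subgroup.center SL)) (QuotientGroup.mk'_surjective _) hχ (by
      intro g hg
      have hg' : g ∈ Subgroup.center SL := (QuotientGroup.eq_one_iff g).1 hg
      rcases mem_center_cases hg' with rfl | rfl
      · rfl
      · exact h)
  refine mem_charDegrees.2 ⟨χ', h1, ?_⟩
  rw [← hn, ← h2 1, map_one]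

theorem psl_degrees (h2 : ringChar F ≠ 2) {q : ℕ} (hq : Fintype.card F = q) (h5 : 5 < q) :
    q ∈ charDegrees (Matrix.ProjectiveSpecialLinearGroup (Fin 2) F) ∧
    q + 1 ∈ charDegrees (Matrix.ProjectiveSpecialLinearGroup (Fin 2) F) ∧
    q - 1 ∈ charDegrees (Matrix.ProjectiveSpecialLinearGroup (Fin 2) F) := by
  classical
  have hone : (1 : MulChar F ℂ) (-1) = 1 := MulChar.one_apply (IsUnit.neg isUnit_one)
  have hRz : ∀ α : MulChar F ℂ, α (-1) = 1 → (R α : SL → ℂ) z0 = (q : ℂ) + 1 := by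
    intro α hα
    have h := R_upp_zero α (neg_one_inv (F := F))
    rw [Units.val_neg, Units.val_one, hα, hq, mul_one] at h
    exact h
  have hR1 : ∀ α : MulChar F ℂ, (R α : SL → ℂ) 1 = (q : ℂ) + 1 := by
    intro α
    have h := R_upp_zero α (inv_one : (1 : Fˣ)⁻¹ = 1)
    rw [upp_one_zero, Units.val_one, map_one, hq, mul_one] at h
    exact h
  refine ⟨?_, ?_, ?_⟩
  · -- the Steinberg character
    have hodd : Odd (Fintype.card F) := by
      rcases Nat.even_or_odd (Fintype.card F) with h | h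
      · exfalso
        exact h2 (FiniteField.even_card_iff_char_two.2 (Nat.even_iff.1 h))
      · exact h
    have hSt : IsIrrCharacter SL (fun x => R (1 : MulChar F ℂ) x - 1) := by
      have hc := isCharacter_R (1 : MulChar F ℂ)
      have h1 : (fun x => R (1 : MulChar F ℂ) x - 1 : SL → ℂ) = R (1 : MulChar F ℂ) - 1 := rfl
      rw [h1]
      have hRR : classInner (R (1 : MulChar F ℂ)) (R (1 : MulChar F ℂ)) = 2 := by
        rw [classInner_R_R, if_pos rfl, if_pos (by simp)]; norm_num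
      have hR : classInner (R (1 : MulChar F ℂ)) (1 : SL → ℂ) = 1 := classInner_R_one_one
      have hR' : classInner (1 : SL → ℂ) (R (1 : MulChar F ℂ)) = 1 := by
        rw [← classInner_conj_symm, hR, map_one]
      have h11 : classInner (1 : SL → ℂ) 1 = 1 := classInner_irr_self isIrr_one
      have hself : classInner (R (1 : MulChar F ℂ) - 1 : SL → ℂ) (R (1 : MulChar F ℂ) - 1) = 1 := by
        simp only [classInner_sub_left, classInner_sub_right, hRR, hR, hR', h11]
        norm_num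
      rcases isIrr_of_generalized (G := SL) (χ := R (1 : MulChar F ℂ) - 1)
        ⟨R 1, 1, hc, isIrr_isCharacter isIrr_one, rfl⟩ hself with h | h
      · exact h
      · exfalso
        obtain ⟨n, hn, hn'⟩ := isIrr_apply_one h
        rw [Pi.neg_apply, Pi.sub_apply, hR1, Pi.one_apply] at hn'
        have h3 : (q + n : ℕ) = 0 := by
          have : ((q : ℂ)) + n = 0 := by rw [← hn']; ring
          exact_mod_cast this
        omega
    refine mem_psl hSt ?_ ?_
    · change R (1 : MulChar F ℂ) z0 - 1 = R (1 : MulChar F ℂ) 1 - 1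
      rw [hRz 1 hone, hR1]
    · change R (1 : MulChar F ℂ) 1 - 1 = q
      rw [hR1]; ring
  · obtain ⟨θ, h3, h4⟩ := exists_hom (C := Fˣ) (by
      rw [Nat.card_units, Nat.card_eq_fintype_card, hq]; omega) (z := -1) (by simp)
    set α : MulChar F ℂ := MulChar.ofUnitHom θ with hα
    have hαu : ∀ a : Fˣ, α a = θ a := fun a => by rw [hα, MulChar.ofUnitHom_coe]
    have hne : ¬ α = α⁻¹ := by
      intro h
      apply h4
      ext a
      have h5 : α a = α⁻¹ a := by rw [← h]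
      rw [MulChar.inv_apply_eq_inv', hαu] at h5
      rw [MonoidHom.pow_apply, MonoidHom.one_apply, sq]
      have h6 : (θ a : ℂ) * θ a = 1 := by
        nth_rw 2 [h5]
        exact mul_inv_cancel₀ (Units.ne_zero _)
      push_cast
      exact h6
    have hirr : IsIrrCharacter SL (R α) := by
      apply isIrr_of_classInner_self (isCharacter_R α)
      rw [classInner_R_R, if_pos rfl, if_neg hne, add_zero]
    have hα1 : α (-1) = 1 := by
      have := hαu (-1)
      rw [h3, Units.val_neg, Units.val_one] at this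
      rw [this, Units.val_one]
    refine mem_psl hirr ?_ ?_
    · rw [hRz α hα1, hR1]
    · rw [hR1]; push_cast; rfl
  · obtain ⟨g, hg⟩ := exists_ell (F := F)
    haveI : IsCyclic (Subgroup.centralizer ({g} : Set SL)) := isCyclic_cent g hg
    obtain ⟨θ, h3, h4⟩ := exists_hom (C := Subgroup.centralizer ({g} : Set SL)) (by
      rw [card_cent_ell g hg, hq]; omega) (z := ⟨z0, z0_mem g⟩) (Subtype.ext z0_mul_self)
    have hpar : (1 : MulChar F ℂ) (-1) = (θ ⟨z0, z0_mem g⟩ : ℂ) := by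
      rw [h3, Units.val_one]; exact hone
    refine mem_psl (isIrr_X h2 hg hpar h4) ?_ ?_
    · rw [X_z0 hg hpar, X_one hg, hone, mul_one]
    · rw [X_one hg, hq, Nat.cast_sub (by omega)]; simp

end sl2

/-- the arithmetic of the graph -/
theorem graph {S : Type*} [Group S] {q t : ℕ} (ht : t.Prime) (ht2 : t ≠ 2) {n : ℕ} (hqt : q = t ^ n)
    (h5 : 5 < q) (hle : ∀ d ∈ charDegrees S, d = 1 ∨ d = q ∨ d = q + 1 ∨ d = q - 1 ∨
      d = (q + 1) / 2 ∨ d = (q - 1) / 2) (hq : q ∈ charDegrees S) (hq1 : q + 1 ∈ charDegrees S)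
    (hq2 : q - 1 ∈ charDegrees S) :
    Cfsg.degreePrimes S = {r : ℕ | r.Prime ∧ r ∣ q * (q ^ 2 - 1)} ∧
      ∀ r s : ℕ, (Cfsg.degreeGraph S).Adj r s ↔ (r ≠ s ∧ r.Prime ∧ s.Prime ∧ r ∣ q ^ 2 - 1 ∧
        s ∣ q ^ 2 - 1 ∧ (r = 2 ∨ s = 2 ∨ (r ∣ q + 1 ∧ s ∣ q + 1) ∨ (r ∣ q - 1 ∧ s ∣ q - 1))) := by
  have hodd : q % 2 = 1 := by
    have : Odd q := hqt ▸ (ht.odd_of_ne_two ht2).pow
    exact Nat.odd_iff.1 this
  have hfac : q ^ 2 - 1 = (q + 1) * (q - 1) := by
    have := Nat.sq_sub_sq q 1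
    simpa using this
  have hhalf1 : (q + 1) / 2 * 2 = q + 1 := by omega
  have hhalf2 : (q - 1) / 2 * 2 = q - 1 := by omega
  have h2a : 2 ∣ q + 1 := by omega
  have h2b : 2 ∣ q - 1 := by omega
  constructor
  · ext r
    change (r.Prime ∧ ∃ d ∈ charDegrees S, r ∣ d) ↔ (r.Prime ∧ r ∣ q * (q ^ 2 - 1))
    constructor
    · rintro ⟨hr, d, hd, hrd⟩
      refine ⟨hr, ?_⟩
      rw [hfac]
      rcases hle d hd with rfl | rfl | rfl | rfl | rfl | rfl
      · exact absurd (Nat.dvd_one.1 hrd) hr.one_lt.ne'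
      · exact hrd.mul_right _
      · exact (hrd.mul_right _).mul_left _
      · exact (hrd.mul_left _).mul_left _
      · have : r ∣ q + 1 := by rw [← hhalf1]; exact hrd.mul_right _
        exact (this.mul_right _).mul_left _
      · have : r ∣ q - 1 := by rw [← hhalf2]; exact hrd.mul_right _
        exact (this.mul_left _).mul_left _
    · rintro ⟨hr, h⟩
      refine ⟨hr, ?_⟩
      rw [hfac] at h
      rcases hr.dvd_mul.1 h with h | h
      · exact ⟨q, hq, h⟩
      · rcases hr.dvd_mul.1 h with h | h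
        · exact ⟨q + 1, hq1, h⟩
        · exact ⟨q - 1, hq2, h⟩
  · intro r s
    change (r ≠ s ∧ r.Prime ∧ s.Prime ∧ ∃ d ∈ charDegrees S, r * s ∣ d) ↔ _
    constructor
    · rintro ⟨hrs, hr, hs, d, hd, hrsd⟩
      have hrd : r ∣ d := (dvd_mul_right _ _).trans hrsd
      have hsd : s ∣ d := (dvd_mul_left _ _).trans hrsd
      have fin1 : r ∣ q + 1 → s ∣ q + 1 → (r ≠ s ∧ r.Prime ∧ s.Prime ∧ r ∣ q ^ 2 - 1 ∧
        s ∣ q ^ 2 - 1 ∧ (r = 2 ∨ s = 2 ∨ (r ∣ q + 1 ∧ s ∣ q + 1) ∨ (r ∣ q - 1 ∧ s ∣ q - 1))) := by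
        intro h1 h2
        refine ⟨hrs, hr, hs, ?_, ?_, Or.inr (Or.inr (Or.inl ⟨h1, h2⟩))⟩
        · rw [hfac]; exact h1.mul_right _
        · rw [hfac]; exact h2.mul_right _
      have fin2 : r ∣ q - 1 → s ∣ q - 1 → (r ≠ s ∧ r.Prime ∧ s.Prime ∧ r ∣ q ^ 2 - 1 ∧
        s ∣ q ^ 2 - 1 ∧ (r = 2 ∨ s = 2 ∨ (r ∣ q + 1 ∧ s ∣ q + 1) ∨ (r ∣ q - 1 ∧ s ∣ q - 1))) := by
        intro h1 h2
        refine ⟨hrs, hr, hs, ?_, ?_, Or.inr (Or.inr (Or.inr ⟨h1, h2⟩))⟩
        · rw [hfac]; exact h1.mul_left _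
        · rw [hfac]; exact h2.mul_left _
      rcases hle d hd with h | h | h | h | h | h
      · exfalso
        rw [h] at hrd
        exact hr.one_lt.ne' (Nat.dvd_one.1 hrd)
      · exfalso
        rw [h, hqt] at hrd hsd
        have e1 := (Nat.prime_dvd_prime_iff_eq hr ht).1 (hr.dvd_of_dvd_pow hrd)
        have e2 := (Nat.prime_dvd_prime_iff_eq hs ht).1 (hs.dvd_of_dvd_pow hsd)
        exact hrs (e1.trans e2.symm)
      · rw [h] at hrd hsd
        exact fin1 hrd hsd
      · rw [h] at hrd hsd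
        exact fin2 hrd hsd
      · rw [h] at hrd hsd
        exact fin1 (by rw [← hhalf1]; exact hrd.mul_right _) (by rw [← hhalf1]; exact hsd.mul_right _)
      · rw [h] at hrd hsd
        exact fin2 (by rw [← hhalf2]; exact hrd.mul_right _) (by rw [← hhalf2]; exact hsd.mul_right _)
    · rintro ⟨hrs, hr, hs, hr2, hs2, h⟩
      refine ⟨hrs, hr, hs, ?_⟩
      have hcop : Nat.Coprime r s := (Nat.coprime_primes hr hs).2 hrs
      rw [hfac] at hr2 hs2
      rcases h with rfl | rfl | ⟨h1, h2⟩ | ⟨h1, h2⟩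
      · rcases hs.dvd_mul.1 hs2 with h | h
        · exact ⟨q + 1, hq1, hcop.mul_dvd_of_dvd_of_dvd h2a h⟩
        · exact ⟨q - 1, hq2, hcop.mul_dvd_of_dvd_of_dvd h2b h⟩
      · rcases hr.dvd_mul.1 hr2 with h | h
        · exact ⟨q + 1, hq1, hcop.mul_dvd_of_dvd_of_dvd h h2a⟩
        · exact ⟨q - 1, hq2, hcop.mul_dvd_of_dvd_of_dvd h h2b⟩
      · exact ⟨q + 1, hq1, hcop.mul_dvd_of_dvd_of_dvd h1 h2⟩
      · exact ⟨q - 1, hq2, hcop.mul_dvd_of_dvd_of_dvd h1 h2⟩

/-- The statement. -/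
theorem main (F : Type*) [Field F] [Fintype F] (t : ℕ) [Fact t.Prime] [CharP F t] (ht : t ≠ 2) (q : ℕ)
    (hq : Fintype.card F = q) (h5 : 5 < q) {S : Type*} [Group S] [Finite S]
    (hS : Nonempty (S ≃* Matrix.ProjectiveSpecialLinearGroup (Fin 2) F) ∨
      Nonempty (S ≃* Matrix.SpecialLinearGroup (Fin 2) F)) :
    Cfsg.degreePrimes S = {r : ℕ | r.Prime ∧ r ∣ q * (q ^ 2 - 1)} ∧
      ∀ r s : ℕ, (Cfsg.degreeGraph S).Adj r s ↔ (r ≠ s ∧ r.Prime ∧ s.Prime ∧ r ∣ q ^ 2 - 1 ∧
        s ∣ q ^ 2 - 1 ∧ (r = 2 ∨ s = 2 ∨ (r ∣ q + 1 ∧ s ∣ q + 1) ∨ (r ∣ q - 1 ∧ s ∣ q - 1))) := by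
  classical
  have htp : t.Prime := Fact.out
  have h2 : ringChar F ≠ 2 := by
    rw [ringChar.eq F t]; exact ht
  obtain ⟨n, -, hn⟩ := FiniteField.card F t
  obtain ⟨h3, h4, h6⟩ := psl_degrees h2 hq h5
  have hodd : Odd (Fintype.card F) := by
    rw [hn]; exact (htp.odd_of_ne_two ht).pow
  have hle : ∀ d ∈ charDegrees (Matrix.SpecialLinearGroup (Fin 2) F), d = 1 ∨ d = q ∨ d = q + 1 ∨
      d = q - 1 ∨ d = (q + 1) / 2 ∨ d = (q - 1) / 2 := by
    intro d hd
    obtain ⟨χ, hχ, hχd⟩ := mem_charDegrees.1 hd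
    have := (Cfsg.Agent.S2299.result (F := F) hodd).1 χ hχ
    rw [hχd, hq] at this
    rcases this with h | h | h | h | h | h
    · left; exact_mod_cast h
    · right; left; exact_mod_cast h
    · right; right; left; exact_mod_cast h
    · right; right; right; left
      have h8 : ((d + 1 : ℕ) : ℂ) = (q : ℕ) := by
        push_cast
        rw [h]; ring
      have h9 : d + 1 = q := by exact_mod_cast h8
      omega
    · right; right; right; right; left; exact_mod_cast h
    · right; right; right; right; right; exact_mod_cast h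
  have hqn : q = t ^ (n : ℕ) := by rw [← hq, hn]
  have hproj : ∀ {d : ℕ}, d ∈ charDegrees (Matrix.ProjectiveSpecialLinearGroup (Fin 2) F) →
      d ∈ charDegrees (Matrix.SpecialLinearGroup (Fin 2) F) := fun h =>
    charDegrees_comp (QuotientGroup.mk' (Subgroup.center (Matrix.SpecialLinearGroup (Fin 2) F)))
      (QuotientGroup.mk'_surjective _) h
  rcases hS with ⟨⟨e⟩⟩ | ⟨⟨e⟩⟩
  · have hto : ∀ {d : ℕ}, d ∈ charDegrees (Matrix.ProjectiveSpecialLinearGroup (Fin 2) F) →
      d ∈ charDegrees S := fun h => charDegrees_comp e.toMonoidHom e.surjective h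
    exact graph htp ht hqn h5 (fun d hd => hle d (hproj
      (charDegrees_comp e.symm.toMonoidHom e.symm.surjective hd))) (hto h3) (hto h4) (hto h6)
  · have hto : ∀ {d : ℕ}, d ∈ charDegrees (Matrix.SpecialLinearGroup (Fin 2) F) →
      d ∈ charDegrees S := fun h => charDegrees_comp e.toMonoidHom e.surjective h
    exact graph htp ht hqn h5 (fun d hd => hle d
      (charDegrees_comp e.symm.toMonoidHom e.symm.surjective hd)) (hto (hproj h3))
      (hto (hproj h4)) (hto (hproj h6))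

end Cfsg.Agent.H672.SL2Graph
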